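import Cfsg.Agent.H36.TwoPrime.Nice
import Cfsg.Agent.H79.TwoPrime.Defs
import Cfsg.Agent.H9.QT.Basic
import Cfsg.Agent.H81.IsoTransfer

/-!
A perfect group with all class sizes having at most two prime divisors and with quotient one of the
`Nice` simple groups is that simple group.
-/

set_option autoImplicit false
set_option linter.unusedSectionVars false

namespace H36.TwoPrime

open Subgroup H79.TwoPrime

variable {G : Type*} [Group G] [Finite G]

theorem absurd_three (h : HS G) (x : G) (s : Finset ℕ) (hs : 3 ≤ s.card)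
    (hd : ∀ p ∈ s, p.Prime ∧ p ∣ (centralizer ({x} : Set G)).index) : False := by
  have h1 : s ⊆ ((centralizer ({x} : Set G)).index).primeFactors := fun p hp =>
    Nat.mem_primeFactors.2 ⟨(hd p hp).1, (hd p hp).2, index_ne_zero_of_finite⟩
  have := Finset.card_le_card h1
  have := h x
  omega

/-- The relative index in a normal subgroup divides the index. -/
theorem relIndex_dvd_index (C N : Subgroup G) [N.Normal] : C.relIndex N ∣ C.index := by
  obtain ⟨k, hk⟩ := N.relIndex_dvd_index_of_normal C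
  have h1 : (C ⊓ N).relIndex C * C.index = (C ⊓ N).index := relIndex_mul_index inf_le_left
  have h2 : (C ⊓ N).relIndex N * N.index = (C ⊓ N).index := relIndex_mul_index inf_le_right
  rw [inf_comm, inf_relIndex_right, inf_comm] at h1
  rw [inf_relIndex_right, hk, ← mul_assoc, mul_comm (C.relIndex N), mul_assoc, ← h1] at h2
  refine ⟨k, (Nat.eq_of_mul_eq_mul_left ?_ h2).symm⟩
  exact Nat.pos_of_ne_zero fun h => by
    rw [h, zero_mul] at hk
    exact N.index_ne_zero_of_finite hk

theorem centralizer_subgroupOf (N : Subgroup G) (x : N) :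
    centralizer ({x} : Set N) = (centralizer ({(x : G)} : Set G)).subgroupOf N := by
  ext g
  rw [mem_subgroupOf, mem_centralizer_singleton_iff, mem_centralizer_singleton_iff]
  exact ⟨fun h => by simpa using congrArg Subtype.val h, fun h => Subtype.ext (by simpa using h)⟩

theorem hs_normal (h : HS G) (N : Subgroup G) [N.Normal] : HS N := fun x => by
  refine (Finset.card_le_card (Nat.primeFactors_mono ?_ index_ne_zero_of_finite)).trans (h (x : G))
  rw [centralizer_subgroupOf]
  exact relIndex_dvd_index _ N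

theorem index_cent_map_dvd {S : Type*} [Group S] (π : G →* S) (hsur : Function.Surjective π)
    (x : G) : (centralizer ({π x} : Set S)).index ∣ (centralizer ({x} : Set G)).index := by
  refine (index_dvd_of_le ?_).trans (index_map_dvd (centralizer ({x} : Set G)) hsur)
  rintro _ ⟨g, hg, rfl⟩
  rw [SetLike.mem_coe, mem_centralizer_singleton_iff] at hg
  rw [mem_centralizer_singleton_iff]
  rw [← map_mul, ← map_mul, hg]

theorem hs_of_surjective {S : Type*} [Group S] (h : HS G) (π : G →* S)
    (hsur : Function.Surjective π) : HS S := fun x => by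
  obtain ⟨g, rfl⟩ := hsur x
  exact (Finset.card_le_card (Nat.primeFactors_mono (index_cent_map_dvd π hsur g)
    index_ne_zero_of_finite)).trans (h g)

/-- All other primes divide the class size of a nontrivial `r`-element of a `Nice` group. -/
theorem Nice.dvd_index {S : Type*} [Group S] [Finite S] (hS : Nice S) {y : S} (hy : y ≠ 1) {r : ℕ}
    (hr : r.Prime) (hpow : ∃ k : ℕ, y ^ r ^ k = 1) {s : ℕ} (hs : s.Prime) (hsd : s ∣ Nat.card S)
    (hne : s ≠ r) : s ∣ (centralizer ({y} : Set S)).index := by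
  obtain ⟨r', hr', hp, -⟩ := hS.cent y hy
  obtain ⟨k, hk⟩ := hpow
  obtain ⟨j, hj⟩ := hp ⟨y, mem_centralizer_singleton_iff.2 rfl⟩
  have hj' : y ^ r' ^ j = 1 := congrArg Subtype.val hj
  obtain ⟨i, -, hi⟩ := (Nat.dvd_prime_pow hr).1 (orderOf_dvd_of_pow_eq_one hk)
  have hi0 : i ≠ 0 := fun h => hy (orderOf_eq_one_iff.1 (by rw [hi, h, pow_zero]))
  have hrr : r = r' := (Nat.prime_dvd_prime_iff_eq hr hr').1
    (hr.dvd_of_dvd_pow (((dvd_pow_self r hi0).trans hi.symm.dvd).trans (orderOf_dvd_of_pow_eq_one hj')))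
  subst hrr
  haveI : Fact r.Prime := ⟨hr⟩
  obtain ⟨m, hm⟩ := IsPGroup.iff_card.1 hp
  rw [← (centralizer ({y} : Set S)).card_mul_index, hm] at hsd
  rcases hs.dvd_mul.1 hsd with h | h
  · exact absurd ((Nat.prime_dvd_prime_iff_eq hs hr).1 (hs.dvd_of_dvd_pow h)) hne
  · exact h

/-- `p`-subgroups of a `Nice` group are abelian. -/
theorem Nice.comm {S : Type*} [Group S] [Finite S] (hS : Nice S) {r : ℕ} [Fact r.Prime]
    {P : Subgroup S} (hP : IsPGroup r P) : ∀ a ∈ P, ∀ b ∈ P, Commute a b := by
  intro a ha b hb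
  rcases eq_or_ne P ⊥ with h | h
  · rw [h, mem_bot] at ha
    subst ha
    exact Commute.one_left b
  · haveI := (nontrivial_iff_ne_bot P).2 h
    haveI := hP.center_nontrivial
    obtain ⟨⟨z, hz⟩, hz1⟩ := exists_ne (1 : center P)
    have hz0 : (z : S) ≠ 1 := fun h0 => hz1 (Subtype.ext (Subtype.ext h0))
    obtain ⟨-, -, -, hc⟩ := hS.cent z hz0
    have hcz : ∀ c ∈ P, c ∈ centralizer ({(z : S)} : Set S) := fun c hc' =>
      mem_centralizer_singleton_iff.2 (congrArg Subtype.val (mem_center_iff.1 hz ⟨c, hc'⟩))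
    exact hc a (hcz a ha) b (hcz b hb)

theorem card_insert_erase {S : Type*} [Group S] (hS : Nice S) {q r : ℕ}
    (hqr : q = r ∨ q ∉ (Nat.card S).primeFactors) :
    3 ≤ (insert q ((Nat.card S).primeFactors.erase r)).card := by
  by_cases hr : r ∈ (Nat.card S).primeFactors
  · rcases hqr with rfl | hq
    · rw [Finset.insert_erase hr, hS.three]
    · rw [Finset.card_insert_of_notMem fun h => hq (Finset.mem_of_mem_erase h),
        Finset.card_erase_of_mem hr, hS.three]
  · rw [Finset.erase_eq_of_notMem hr]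
    exact hS.three.ge.trans (Finset.card_le_card (Finset.subset_insert _ _))

/-- A nontrivial element of prime power order of `S` lifts to one of the same kind. -/
theorem exists_lift {S : Type*} [Group S] [Finite S] (π : G →* S) (hsur : Function.Surjective π)
    {r : ℕ} [Fact r.Prime] (hr : r ∣ Nat.card S) :
    ∃ b : G, π b ≠ 1 ∧ ∃ k : ℕ, b ^ r ^ k = 1 := by
  obtain ⟨P⟩ := (inferInstance : Nonempty (Sylow r G))
  set Q := P.mapSurjective hsur with hQ
  have hQn : (Q : Subgroup S) ≠ ⊥ := Q.ne_bot_of_dvd_card hr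
  obtain ⟨c, hc, hc1⟩ := (bot_or_exists_ne_one (Q : Subgroup S)).resolve_left hQn
  rw [hQ, Sylow.coe_mapSurjective] at hc
  obtain ⟨b, hb, rfl⟩ := hc
  obtain ⟨k, hk⟩ := P.2 ⟨b, hb⟩
  exact ⟨b, hc1, k, congrArg Subtype.val hk⟩

variable {S : Type*} [Group S] [Finite S] [IsSimpleGroup S]

/-- A normal `q`-subgroup in the kernel is central. -/
theorem pgroup_le_center (hh : HS G) (hperf : ⁅(⊤ : Subgroup G), (⊤ : Subgroup G)⁆ = ⊤) (π : G →* S)
    (hsur : Function.Surjective π) (hker : Group.IsSolvable π.ker) (hS : Nice S) {q : ℕ}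
    [hq : Fact q.Prime] (V : Subgroup G) [V.Normal] (hV : IsPGroup q V) (hVk : V ≤ π.ker) :
    V ≤ center G := by
  set C := centralizer (V : Set G) with hC
  haveI : C.Normal := inferInstanceAs (centralizer (V : Set G)).Normal
  by_cases hCk : C ≤ π.ker
  · exfalso
    obtain ⟨r, hr, hrd, hqr⟩ : ∃ r, r.Prime ∧ r ∣ Nat.card S ∧
        (q = r ∨ q ∉ (Nat.card S).primeFactors) := by
      by_cases h : q ∈ (Nat.card S).primeFactors
      · exact ⟨q, hq.out, (Nat.mem_primeFactors.1 h).2.1, Or.inl rfl⟩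
      · exact ⟨2, Nat.prime_two, hS.even, Or.inr h⟩
    haveI := Fact.mk hr
    obtain ⟨b, hb, k, hk⟩ := exists_lift π hsur hrd
    refine absurd_three hh b _ (card_insert_erase hS hqr) fun p hp => ?_
    rcases Finset.mem_insert.1 hp with rfl | hp
    · refine ⟨hq.out, dvd_trans ?_ (relIndex_dvd_index _ V)⟩
      obtain ⟨n, hn⟩ := hV.index ((centralizer ({b} : Set G)).subgroupOf V)
      change (centralizer ({b} : Set G)).relIndex V = p ^ n at hn
      rw [hn]
      refine dvd_pow_self _ fun h0 => hb (hCk ?_)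
      rw [h0, pow_zero, relIndex_eq_one] at hn
      exact mem_centralizer_iff.2 fun v hv => mem_centralizer_singleton_iff.1 (hn hv)
    · obtain ⟨hpr, hp⟩ := Finset.mem_erase.1 hp
      obtain ⟨hp, hpd, -⟩ := Nat.mem_primeFactors.1 hp
      exact ⟨hp, dvd_trans (hS.dvd_index hb hr ⟨k, by rw [← map_pow, hk, map_one]⟩ hp hpd hpr)
        (index_cent_map_dvd π hsur b)⟩
  · have hne : C.map π ≠ ⊥ := fun h => hCk (map_eq_bot_iff C |>.1 h)
    have htop : C.map π = ⊤ :=
      ((inferInstance : C.Normal).map π hsur).eq_bot_or_eq_top.resolve_left hne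
    have hsup : C ⊔ π.ker = ⊤ := by rw [← comap_map_eq, htop, comap_top]
    have hCt : (⊤ : Subgroup G) ≤ C :=
      Cfsg.Agent.H9.QT.perfect_le_of_le_sup hperf hker (Normal.isSubnormal inferInstance) hsup.ge
    exact fun v hv => mem_center_iff.2 fun g => (mem_centralizer_iff.1 (hCt (mem_top g)) v hv).symm

/-- A nilpotent normal subgroup in the kernel is central. -/
theorem nilpotent_le_center (hh : HS G) (hperf : ⁅(⊤ : Subgroup G), (⊤ : Subgroup G)⁆ = ⊤) (π : G →* S)
    (hsur : Function.Surjective π) (hker : Group.IsSolvable π.ker) (hS : Nice S) (D : Subgroup G)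
    [D.Normal] (hD : Group.IsNilpotent D) (hDk : D ≤ π.ker) : D ≤ center G := by
  have h1 : ((center G).subgroupOf D).index = 1 := by
    by_contra hne
    obtain ⟨p, hp, hpd⟩ := Nat.exists_prime_and_dvd hne
    haveI := Fact.mk hp
    obtain ⟨P⟩ := (inferInstance : Nonempty (Sylow p D))
    haveI := P.characteristic_of_normal inferInstance
    have hle : (P : Subgroup D) ≤ (center G).subgroupOf D := fun x hx =>
      mem_subgroupOf.2 (pgroup_le_center hh hperf π hsur hker hS ((P : Subgroup D).map D.subtype)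
        (P.2.map _) ((map_subtype_le _).trans hDk) ⟨x, hx, rfl⟩)
    exact P.not_dvd_index (hpd.trans (index_dvd_of_le hle))
  exact subgroupOf_eq_top.1 (index_eq_one.1 h1)

/-- The kernel is trivial. -/
theorem ker_eq_bot (hh : HS G) (hperf : ⁅(⊤ : Subgroup G), (⊤ : Subgroup G)⁆ = ⊤) (π : G →* S)
    (hsur : Function.Surjective π) (hker : Group.IsSolvable π.ker) (hS : Nice S) : π.ker = ⊥ := by
  have hz : π.ker ≤ center G := by
    let D : ℕ → Subgroup G := fun n => (derivedSeries π.ker n).map π.ker.subtype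
    have hD0 : D 0 = π.ker := by
      simp only [D, derivedSeries_zero, ← MonoidHom.range_eq_map, range_subtype]
    have hDs : ∀ n, D (n + 1) = ⁅D n, D n⁆ := fun n => by
      simp only [D, derivedSeries_succ, map_commutator]
    have hDn : ∀ n, (D n).Normal ∧ D n ≤ π.ker := by
      intro n
      induction n with
      | zero => rw [hD0]; exact ⟨inferInstance, le_rfl⟩
      | succ n ih =>
        haveI := ih.1
        rw [hDs]
        exact ⟨commutator_normal _ _, (commutator_le_self _).trans ih.2⟩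
    obtain ⟨n, hn⟩ := hker.solvable
    suffices h : ∀ j, j ≤ n → D (n - j) ≤ center G by
      have := h n le_rfl
      rwa [Nat.sub_self, hD0] at this
    intro j hj
    induction j with
    | zero => simp [D, hn]
    | succ j ih =>
      haveI := (hDn (n - (j + 1))).1
      refine nilpotent_le_center hh hperf π hsur hker hS _ ?_ (hDn _).2
      refine Cfsg.Comp.isNilpotent_of_commutator_commutator ?_
      rw [← hDs, show n - (j + 1) + 1 = n - j by omega, commutator_eq_bot_iff_le_centralizer]
      exact (ih (by omega)).trans (center_le_centralizer _)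
  by_contra hne
  obtain ⟨q, hq, hqd⟩ := Nat.exists_prime_and_dvd (fun h => hne (card_eq_one.1 h))
  haveI := Fact.mk hq
  obtain ⟨⟨z, hzk⟩, hzo⟩ := exists_prime_orderOf_dvd_card' (G := π.ker) q hqd
  rw [orderOf_mk] at hzo
  have hzp : IsPGroup q (zpowers z) := IsPGroup.of_card (n := 1) (by rw [Nat.card_zpowers, hzo, pow_one])
  obtain ⟨Q, hQ⟩ := hzp.exists_le_sylow
  by_cases hQc : ∀ a ∈ (Q : Subgroup G), ∀ b ∈ (Q : Subgroup G), Commute a b
  · have := H81.Iso.eq_one_of_abelian_sylow Q hQc (hQ (mem_zpowers z)) (hz hzk)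
      (by rw [_root_.commutator_def, hperf]; exact mem_top z)
    rw [this, orderOf_one] at hzo
    exact hq.ne_one hzo.symm
  push Not at hQc
  obtain ⟨u, hu, v, hv, huv⟩ := hQc
  have hπu : π u ≠ 1 := fun h => huv (mem_center_iff.1 (hz (MonoidHom.mem_ker.2 h)) v).symm
  have hcomm : Commute (π u) (π v) :=
    hS.comm (P := (Q : Subgroup G).map π) (Q.2.map π) _ ⟨u, hu, rfl⟩ _ ⟨v, hv, rfl⟩
  obtain ⟨k, hk⟩ := Q.2 ⟨u, hu⟩
  have hk : u ^ q ^ k = 1 := congrArg Subtype.val hk
  set D := (centralizer ({π u} : Set S)).comap π with hD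
  have hc : ∀ d : D, (d : G) * u * (d : G)⁻¹ * u⁻¹ ∈ center G := fun d => hz (by
    rw [MonoidHom.mem_ker]
    have := mem_centralizer_singleton_iff.1 (mem_comap.1 d.2)
    simp [this])
  let f : D →* center G :=
    { toFun := fun d => ⟨_, hc d⟩
      map_one' := Subtype.ext (by simp)
      map_mul' := fun d e => Subtype.ext (by
        have he := mem_center_iff.1 (hc e)
        simp only [coe_mul, mul_inv_rev]
        calc (d : G) * e * u * ((e : G)⁻¹ * (d : G)⁻¹) * u⁻¹
            = (d : G) * ((e : G) * u * (e : G)⁻¹ * u⁻¹) * u * (d : G)⁻¹ * u⁻¹ := by group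
          _ = ((e : G) * u * (e : G)⁻¹ * u⁻¹) * ((d : G) * u * (d : G)⁻¹ * u⁻¹) := by
              rw [he]; group
          _ = _ := (he _).symm) }
  have hf : IsPGroup q f.range := by
    rintro ⟨_, d, rfl⟩
    refine ⟨k, Subtype.ext (Subtype.ext ?_)⟩
    have hcu : Commute ((d : G) * u * (d : G)⁻¹ * u⁻¹) u := (mem_center_iff.1 (hc d) u).symm
    have h1 : ((d : G) * u * (d : G)⁻¹ * u⁻¹ * u) ^ q ^ k = 1 := by
      rw [show (d : G) * u * (d : G)⁻¹ * u⁻¹ * u = (d : G) * u * (d : G)⁻¹ by group, conj_pow, hk]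
      group
    rw [hcu.mul_pow, hk, mul_one] at h1
    exact h1
  have hker' : (centralizer ({u} : Set G)).subgroupOf D = f.ker := by
    ext d
    rw [mem_subgroupOf, MonoidHom.mem_ker, mem_centralizer_singleton_iff]
    constructor
    · intro h
      exact Subtype.ext (show (d : G) * u * (d : G)⁻¹ * u⁻¹ = 1 by rw [h]; group)
    · intro h
      have h2 : (d : G) * u * (d : G)⁻¹ * u⁻¹ = 1 := congrArg Subtype.val h
      rwa [mul_inv_eq_one, mul_inv_eq_iff_eq_mul] at h2
  obtain ⟨n, hn⟩ := IsPGroup.iff_card.1 hf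
  have hrel : (centralizer ({u} : Set G)).relIndex D = q ^ n := by
    change ((centralizer ({u} : Set G)).subgroupOf D).index = q ^ n
    rw [hker', index_ker, hn]
  have hle : centralizer ({u} : Set G) ≤ D := fun g hg => by
    rw [hD, mem_comap, mem_centralizer_singleton_iff, ← map_mul, ← map_mul,
      mem_centralizer_singleton_iff.1 hg]
  have hn0 : n ≠ 0 := fun h0 => by
    rw [h0, pow_zero, relIndex_eq_one] at hrel
    have hvD : v ∈ D := mem_comap.2 (mem_centralizer_singleton_iff.2 hcomm.symm.eq)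
    exact huv (mem_centralizer_singleton_iff.1 (hrel hvD)).symm
  have hidx : (centralizer ({u} : Set G)).index =
      q ^ n * (centralizer ({π u} : Set S)).index := by
    rw [← relIndex_mul_index hle, hrel, hD, index_comap_of_surjective _ hsur]
  refine absurd_three hh u _ (card_insert_erase hS (Or.inl rfl : q = q ∨ _)) fun p hp => ?_
  rw [hidx]
  rcases Finset.mem_insert.1 hp with rfl | hp
  · exact ⟨hq, (dvd_pow_self _ hn0).trans (dvd_mul_right _ _)⟩
  · obtain ⟨hpr, hp⟩ := Finset.mem_erase.1 hp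
    obtain ⟨hp, hpd, -⟩ := Nat.mem_primeFactors.1 hp
    exact ⟨hp, (hS.dvd_index hπu hq ⟨k, by rw [← map_pow, hk, map_one]⟩ hp hpd hpr).trans
      (dvd_mul_left _ _)⟩

end H36.TwoPrime
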