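import Mathlib

/-!
Simple groups with centralisers of prime power order, as needed for class sizes with two prime
divisors.
-/

set_option autoImplicit false

namespace H36.TwoPrime

open Subgroup

/-- The fixed subgroup of an automorphism. -/
def fixedSub {S : Type*} [Group S] (α : MulAut S) : Subgroup S where
  carrier := {x | α x = x}
  mul_mem' := fun {a b} ha hb => by
    simp only [Set.mem_setOf_eq] at *
    rw [map_mul, ha, hb]
  one_mem' := map_one α
  inv_mem' := fun {a} ha => by
    simp only [Set.mem_setOf_eq] at *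
    rw [map_inv, ha]

theorem mem_fixedSub {S : Type*} [Group S] {α : MulAut S} {x : S} :
    x ∈ fixedSub α ↔ α x = x := Iff.rfl

/-- What is used about the simple groups `A₅` and `PSL(2,8)`. -/
structure Nice (S : Type*) [Group S] : Prop where
  three : (Nat.card S).primeFactors.card = 3
  even : 2 ∣ Nat.card S
  cent : ∀ y : S, y ≠ 1 → ∃ r, r.Prime ∧ IsPGroup r (centralizer ({y} : Set S)) ∧
    ∀ a ∈ centralizer ({y} : Set S), ∀ b ∈ centralizer ({y} : Set S), Commute a b
  cyc : ∃ r, r.Prime ∧ r ≠ 2 ∧ r ∣ Nat.card S ∧ ¬ r ^ 2 ∣ Nat.card S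
  outer : ∀ α : MulAut S, α ∈ (MulAut.conj : S →* MulAut S).range ∨
    ∃ s : S, 3 ≤ (fixedSub (MulAut.conj s * α)).index.primeFactors.card

namespace Nice

theorem of_equiv {S T : Type*} [Group S] [Group T] (e : S ≃* T) (h : Nice S) : Nice T := by
  have hc : Nat.card T = Nat.card S := Nat.card_congr e.symm.toEquiv
  refine ⟨by rw [hc]; exact h.three, by rw [hc]; exact h.even, fun y hy => ?_,
    by rw [hc]; exact h.cyc, fun α => ?_⟩
  · obtain ⟨r, hr, hp, hcomm⟩ := h.cent (e.symm y) (by simpa using hy)
    have hmem : ∀ a, a ∈ centralizer ({y} : Set T) →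
        e.symm a ∈ centralizer ({e.symm y} : Set S) := fun a ha => by
      rw [mem_centralizer_singleton_iff] at ha ⊢
      rw [← map_mul, ← map_mul, ha]
    refine ⟨r, hr, ?_, fun a ha b hb => ?_⟩
    · rintro ⟨a, ha⟩
      obtain ⟨k, hk⟩ := hp ⟨_, hmem a ha⟩
      refine ⟨k, Subtype.ext (e.symm.injective ?_)⟩
      simpa using congrArg Subtype.val hk
    · exact Commute.of_map e.symm.injective (hcomm _ (hmem a ha) _ (hmem b hb))
  · rcases h.outer ((e.trans α).trans e.symm) with ⟨s, hs⟩ | ⟨s, hs⟩
    · refine Or.inl ⟨e s, MulEquiv.ext fun x => ?_⟩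
      have h1 := MulEquiv.congr_fun hs (e.symm x)
      simp only [MulAut.conj_apply, MulEquiv.trans_apply, MulEquiv.apply_symm_apply] at h1
      have h2 := congrArg e h1
      simpa using h2
    · refine Or.inr ⟨e s, ?_⟩
      have : (fixedSub (MulAut.conj (e s) * α)).comap e.toMonoidHom =
          fixedSub (MulAut.conj s * (e.trans α).trans e.symm) := by
        ext x
        rw [mem_comap, mem_fixedSub, mem_fixedSub]
        constructor <;> intro hx
        · have h2 := congrArg e.symm hx
          simpa using h2
        · have h2 := congrArg e hx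
          simpa using h2
      rwa [← this, index_comap_of_surjective _ e.surjective] at hs

end Nice

theorem primeFactors_60 : Nat.primeFactors 60 = {2, 3, 5} := by
  have : Nat.primeFactors (2 ^ 2 * (3 * 5)) = {2, 3, 5} := by
    rw [Nat.primeFactors_mul (by norm_num) (by norm_num),
      Nat.primeFactors_mul (by norm_num) (by norm_num), Nat.primeFactors_prime_pow (by norm_num)
      Nat.prime_two, Nat.Prime.primeFactors Nat.prime_three,
      Nat.Prime.primeFactors (by norm_num : Nat.Prime 5)]
    rfl
  simpa using this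

theorem primeFactors_504 : Nat.primeFactors 504 = {2, 3, 7} := by
  have : Nat.primeFactors (2 ^ 3 * (3 ^ 2 * 7)) = {2, 3, 7} := by
    rw [Nat.primeFactors_mul (by norm_num) (by norm_num),
      Nat.primeFactors_mul (by norm_num) (by norm_num), Nat.primeFactors_prime_pow (by norm_num)
      Nat.prime_two, Nat.primeFactors_prime_pow (by norm_num) Nat.prime_three,
      Nat.Prime.primeFactors (by norm_num : Nat.Prime 7)]
    rfl
  simpa using this

end H36.TwoPrime
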