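import Cfsg.Agent.H36.TwoPrime.Nice
import Cfsg.Agent.H32.AltAut

/-!
The alternating group of degree five has centralisers of prime power order.
-/

set_option autoImplicit false

namespace H36.TwoPrime

open Subgroup Equiv

theorem a5_cent_card : ∀ y : alternatingGroup (Fin 5), y ≠ 1 →
    Fintype.card {g : alternatingGroup (Fin 5) // g * y = y * g} = 3 ∨
    Fintype.card {g : alternatingGroup (Fin 5) // g * y = y * g} = 4 ∨
    Fintype.card {g : alternatingGroup (Fin 5) // g * y = y * g} = 5 := by
  decide +kernel

/-- The odd permutation used for the outer automorphisms. -/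
def fourCycle : Perm (Fin 5) := swap 0 1 * swap 1 2 * swap 2 3

theorem fourCycle_fixed :
    Fintype.card {g : alternatingGroup (Fin 5) //
      fourCycle * (g : Perm (Fin 5)) = (g : Perm (Fin 5)) * fourCycle} = 2 := by
  decide +kernel

theorem sign_fourCycle : Perm.sign fourCycle = -1 := by
  decide +kernel

theorem card_a5 : Nat.card (alternatingGroup (Fin 5)) = 60 := by
  rw [nat_card_alternatingGroup, Nat.card_fin]
  rfl

theorem nice_A5 : Nice (alternatingGroup (Fin 5)) := by
  refine ⟨by rw [card_a5, primeFactors_60]; rfl, by rw [card_a5]; norm_num, fun y hy => ?_,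
    ⟨5, by norm_num, by norm_num, by rw [card_a5]; norm_num, by rw [card_a5]; norm_num⟩, fun α => ?_⟩
  · have hc : Nat.card (centralizer ({y} : Set (alternatingGroup (Fin 5)))) =
        Fintype.card {g : alternatingGroup (Fin 5) // g * y = y * g} := by
      rw [← Nat.card_eq_fintype_card]
      exact Nat.card_congr (Equiv.subtypeEquivRight fun g => mem_centralizer_singleton_iff)
    rcases a5_cent_card y hy with h | h | h <;> rw [h] at hc
    · haveI : Fact (Nat.Prime 3) := ⟨by norm_num⟩
      haveI := isCyclic_of_prime_card hc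
      letI := IsCyclic.commGroup (α := centralizer ({y} : Set (alternatingGroup (Fin 5))))
      exact ⟨3, by norm_num, IsPGroup.of_card (n := 1) (by simpa using hc), fun a ha b hb =>
        congrArg Subtype.val (mul_comm (⟨a, ha⟩ : centralizer _) ⟨b, hb⟩)⟩
    · haveI : Fact (Nat.Prime 2) := ⟨by norm_num⟩
      have hc' : Nat.card (centralizer ({y} : Set (alternatingGroup (Fin 5)))) = 2 ^ 2 := hc
      letI := IsPGroup.commGroupOfCardEqPrimeSq hc'
      exact ⟨2, Nat.prime_two, IsPGroup.of_card hc', fun a ha b hb =>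
        congrArg Subtype.val (mul_comm (⟨a, ha⟩ : centralizer _) ⟨b, hb⟩)⟩
    · haveI : Fact (Nat.Prime 5) := ⟨by norm_num⟩
      haveI := isCyclic_of_prime_card hc
      letI := IsCyclic.commGroup (α := centralizer ({y} : Set (alternatingGroup (Fin 5))))
      exact ⟨5, by norm_num, IsPGroup.of_card (n := 1) (by simpa using hc), fun a ha b hb =>
        congrArg Subtype.val (mul_comm (⟨a, ha⟩ : centralizer _) ⟨b, hb⟩)⟩
  · obtain ⟨σ, rfl⟩ := (H32.AltAut.conjNormal_bijective (α := Fin 5) (by simp) (by simp)).2 α
    rcases Int.units_eq_one_or (Perm.sign σ) with hs | hs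
    · exact Or.inl ⟨⟨σ, Perm.mem_alternatingGroup.2 hs⟩, MulEquiv.ext fun x => Subtype.ext rfl⟩
    · obtain ⟨s, hval⟩ : ∃ s : alternatingGroup (Fin 5), (s : Perm (Fin 5)) = fourCycle * σ⁻¹ :=
        ⟨⟨_, Perm.mem_alternatingGroup.2 (by rw [map_mul, map_inv, sign_fourCycle, hs]; rfl)⟩, rfl⟩
      refine Or.inr ⟨s, ?_⟩
      have hcard : Nat.card (fixedSub ((MulAut.conj s : MulAut (alternatingGroup (Fin 5))) *
          MulAut.conjNormal σ)) = 2 := by
        rw [← fourCycle_fixed, ← Nat.card_eq_fintype_card]
        refine Nat.card_congr (Equiv.subtypeEquivRight fun x => ?_)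
        rw [mem_fixedSub, Subtype.ext_iff]
        simp only [MulAut.mul_apply, MulAut.conj_apply, Subgroup.coe_mul, InvMemClass.coe_inv,
          MulAut.conjNormal_apply, hval]
        rw [← mul_inv_eq_iff_eq_mul (b := fourCycle)]
        group
      have h1 := (fixedSub ((MulAut.conj s : MulAut (alternatingGroup (Fin 5))) *
          MulAut.conjNormal σ)).card_mul_index
      rw [hcard, card_a5] at h1
      refine (Finset.card_le_card (s := ({2, 3, 5} : Finset ℕ)) fun p hp => ?_)
      refine Nat.mem_primeFactors.2 ?_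
      simp only [Finset.mem_insert, Finset.mem_singleton] at hp
      rcases hp with rfl | rfl | rfl <;> refine ⟨by norm_num, ?_, by omega⟩ <;>
        (rw [Nat.dvd_iff_mod_eq_zero]; omega)

end H36.TwoPrime
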