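import Cfsg.Agent.H36.TwoPrime.Nice
import Cfsg.Agent.H55.PSLAutTwo
import Cfsg.Agent.H55.PSLField
import Cfsg.Agent.S2507

/-!
The group `PSL(2,8)` has centralisers of prime power order.
-/

set_option autoImplicit false
set_option linter.style.haveILetI false

namespace H36.TwoPrime

open Subgroup Matrix H55

/-- A group of order eight in which the centraliser of each element of order four has order eight
and equals that of its square. -/
theorem comm_of_card_eight {H : Type*} [Group H] (h8 : Nat.card H = 8)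
    (hsq : ∀ w : H, w ^ 2 ≠ 1 → ∀ g : H, g * w ^ 2 = w ^ 2 * g → g * w = w * g) :
    ∀ a b : H, Commute a b := by
  haveI : Finite H := Nat.finite_of_card_ne_zero (by omega)
  by_cases h2 : ∀ w : H, w ^ 2 = 1
  · intro a b
    have ha := h2 a; have hb := h2 b; have hab := h2 (a * b)
    rw [pow_two] at ha hb hab
    calc a * b = a⁻¹ * b⁻¹ := by
          rw [← eq_inv_of_mul_eq_one_left ha, ← eq_inv_of_mul_eq_one_left hb]
      _ = (b * a)⁻¹ := (_root_.mul_inv_rev b a).symm
      _ = b * a := by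
          have := h2 (b * a); rw [pow_two] at this
          exact (eq_inv_of_mul_eq_one_left this).symm
  classical
  push Not at h2
  obtain ⟨w, hw⟩ := h2
  have hd : orderOf w ∣ 2 ^ 3 := by
    rw [show (2 : ℕ) ^ 3 = Nat.card H by rw [h8]; norm_num]; exact orderOf_dvd_natCard w
  obtain ⟨i, hi, hoi⟩ := (Nat.dvd_prime_pow Nat.prime_two).1 hd
  have hw2 : ∀ k, orderOf w = k → ¬ k ∣ 2 := fun k hk hk2 =>
    hw (orderOf_dvd_iff_pow_eq_one.1 (hk ▸ hk2))
  interval_cases i
  · exact absurd (one_dvd 2) (by simpa using hw2 _ hoi)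
  · exact absurd (dvd_refl 2) (by simpa using hw2 _ hoi)
  swap
  · haveI := isCyclic_of_orderOf_eq_card w (by rw [hoi, h8]; norm_num)
    letI := IsCyclic.commGroup (α := H)
    exact fun a b => mul_comm a b
  have ho : orderOf w = 4 := by rw [hoi]; norm_num
  have hidx : (zpowers w).index = 2 := by
    have := (zpowers w).card_mul_index
    rw [Nat.card_zpowers, ho, h8] at this
    omega
  haveI := normal_of_index_eq_two hidx
  have hcw : ∀ g : H, g * w = w * g := by
    intro g
    refine hsq w hw g ?_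
    have hmem : g * w * g⁻¹ ∈ zpowers w :=
      (inferInstance : (zpowers w).Normal).conj_mem w (mem_zpowers w) g
    rw [mem_zpowers_iff_mem_range_orderOf, ho, Finset.mem_image] at hmem
    obtain ⟨k, hk, hkw⟩ := hmem
    rw [Finset.mem_range] at hk
    have hsqg : g * w ^ 2 * g⁻¹ = w ^ (k * 2) := by rw [pow_mul, hkw, conj_pow]
    have h4 : w ^ 4 = 1 := ho ▸ pow_orderOf_eq_one w
    have : w ^ (k * 2) = w ^ 2 := by
      interval_cases k
      · exact absurd (by simpa using hkw.symm) (fun hh : w = 1 => hw (by rw [hh, one_pow]))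
      · rfl
      · exfalso
        rw [show 2 * 2 = 4 by rfl, h4] at hsqg
        exact hw (by simpa using hsqg)
      · rw [show 3 * 2 = 4 + 2 by rfl, pow_add, h4, one_mul]
    rw [this, mul_inv_eq_iff_eq_mul] at hsqg
    exact hsqg
  have hz : ∀ u ∈ zpowers w, ∀ g : H, Commute g u := by
    intro u hu g
    obtain ⟨n, rfl⟩ := mem_zpowers_iff.1 hu
    exact Commute.zpow_right (hcw g) n
  intro a b
  by_cases ha : a ∈ zpowers w
  · exact (hz a ha b).symm
  by_cases hb : b ∈ zpowers w
  · exact hz b hb a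
  · have hab : a⁻¹ * b ∈ zpowers w := (mul_mem_iff_of_index_two hidx).2 (by simp [ha, hb])
    have := (Commute.refl a).mul_right (hz _ hab a)
    rwa [mul_inv_cancel_left] at this

private abbrev K := GaloisField 2 3

theorem card_K : Nat.card K = 8 := by
  rw [GaloisField.card 2 3 (by norm_num)]
  norm_num

theorem pmk_K_injective : Function.Injective (pmk : SLn 2 K → PSLn 2 K) :=
  (injective_iff_map_eq_one pmk).2 fun a h => by
    obtain ⟨c, hc, ha⟩ := pmk_eq_one_iff.1 h
    exact Subtype.ext (by rw [ha, eq_one_of_pow_char (p := 2) hc, one_smul]; rfl)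

theorem center_L28 : center (PSLn 2 K) = ⊥ := by
  rw [eq_bot_iff]
  intro x hx
  obtain ⟨a, rfl⟩ := pmk_surjective x
  have ha : a ∈ center (SLn 2 K) := mem_center_iff.2 fun g =>
    pmk_K_injective (by rw [map_mul, map_mul]; exact mem_center_iff.1 hx (pmk g))
  rw [mem_bot]
  exact (QuotientGroup.eq_one_iff a).2 ha

theorem card_L28 : Nat.card (PSLn 2 K) = 504 := by
  letI := Fintype.ofFinite K
  rw [H39.card_G2_eq, ← Nat.card_eq_fintype_card, card_K]
  norm_num

theorem cent_card_L28 {y : PSLn 2 K} (hy : y ≠ 1) :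
    Nat.card (centralizer ({y} : Set (PSLn 2 K))) = 7 ∨
    Nat.card (centralizer ({y} : Set (PSLn 2 K))) = 8 ∨
    Nat.card (centralizer ({y} : Set (PSLn 2 K))) = 9 := by
  letI := Fintype.ofFinite K
  have hq : Fintype.card K = 8 := by rw [← Nat.card_eq_fintype_card, card_K]
  have hmem : (centralizer ({y} : Set (PSLn 2 K))).index ∈
      Set.range (fun g : PSLn 2 K => (centralizer ({g} : Set (PSLn 2 K))).index) := ⟨y, rfl⟩
  rw [Cfsg.Agent.S2507.result (by rw [hq]; norm_num) (by rw [hq]; norm_num), hq] at hmem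
  have h1 : (centralizer ({y} : Set (PSLn 2 K))).index ≠ 1 := fun h => hy (by
    have hc : y ∈ center (PSLn 2 K) := mem_center_iff.2 fun g =>
      mem_centralizer_singleton_iff.1 (by rw [index_eq_one.1 h]; exact mem_top g)
    rwa [center_L28, mem_bot] at hc)
  have h := (centralizer ({y} : Set (PSLn 2 K))).card_mul_index
  rw [card_L28] at h
  simp only [Set.mem_insert_iff, Set.mem_singleton_iff] at hmem
  rcases hmem with h' | h' | h' | h'
  · exact absurd h' h1
  all_goals (rw [h'] at h; norm_num at h; omega)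

theorem cent_eight {w : PSLn 2 K} (hw : w ≠ 1) {k : ℕ} (hk : w ^ 2 ^ k = 1) :
    Nat.card (centralizer ({w} : Set (PSLn 2 K))) = 8 := by
  have hd : orderOf w ∣ Nat.card (centralizer ({w} : Set (PSLn 2 K))) :=
    orderOf_dvd_natCard _ (mem_centralizer_singleton_iff.2 rfl)
  obtain ⟨i, -, hi⟩ := (Nat.dvd_prime_pow Nat.prime_two).1 (orderOf_dvd_of_pow_eq_one hk)
  have hi0 : i ≠ 0 := fun h => hw (orderOf_eq_one_iff.1 (by rw [hi, h, pow_zero]))
  have h2 : 2 ∣ Nat.card (centralizer ({w} : Set (PSLn 2 K))) :=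
    (dvd_pow_self 2 hi0).trans (hi ▸ hd)
  rcases cent_card_L28 hw with h | h | h <;> omega

theorem cent_comm_L28 {y : PSLn 2 K} (hy : y ≠ 1) :
    ∀ a ∈ centralizer ({y} : Set (PSLn 2 K)), ∀ b ∈ centralizer ({y} : Set (PSLn 2 K)),
      Commute a b := by
  intro a ha b hb
  suffices h : ∀ u v : centralizer ({y} : Set (PSLn 2 K)), Commute u v from
    congrArg Subtype.val (h ⟨a, ha⟩ ⟨b, hb⟩).eq
  rcases cent_card_L28 hy with h | h | h
  · haveI : Fact (Nat.Prime 7) := ⟨by norm_num⟩
    haveI := isCyclic_of_prime_card h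
    letI := IsCyclic.commGroup (α := centralizer ({y} : Set (PSLn 2 K)))
    exact fun u v => mul_comm u v
  · refine comm_of_card_eight h fun w hw g hg => Subtype.ext ?_
    have hw4 : ∃ k, (w : PSLn 2 K) ^ 2 ^ k = 1 := by
      refine ⟨3, ?_⟩
      have := congrArg Subtype.val (pow_card_eq_one' (x := w))
      rw [h] at this
      simpa using this
    obtain ⟨k, hk⟩ := hw4
    have hw0 : (w : PSLn 2 K) ^ 2 ≠ 1 := fun h0 => hw (Subtype.ext (by simpa using h0))
    have hw1 : (w : PSLn 2 K) ≠ 1 := fun h0 => hw0 (by rw [h0, one_pow])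
    have hk2 : ((w : PSLn 2 K) ^ 2) ^ 2 ^ k = 1 := by rw [← pow_mul, mul_comm, pow_mul, hk, one_pow]
    have hle : centralizer ({(w : PSLn 2 K)} : Set (PSLn 2 K)) ≤
        centralizer ({(w : PSLn 2 K) ^ 2} : Set (PSLn 2 K)) := fun x hx =>
      mem_centralizer_singleton_iff.2 (Commute.pow_right (mem_centralizer_singleton_iff.1 hx) 2)
    have heq := eq_of_le_of_card_ge hle (by rw [cent_eight hw1 hk, cent_eight hw0 hk2])
    have hg' : (g : PSLn 2 K) ∈ centralizer ({(w : PSLn 2 K) ^ 2} : Set (PSLn 2 K)) :=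
      mem_centralizer_singleton_iff.2 (by simpa using congrArg Subtype.val hg)
    rw [← heq] at hg'
    simpa using mem_centralizer_singleton_iff.1 hg'
  · haveI : Fact (Nat.Prime 3) := ⟨by norm_num⟩
    have h' : Nat.card (centralizer ({y} : Set (PSLn 2 K))) = 3 ^ 2 := h
    letI := IsPGroup.commGroupOfCardEqPrimeSq h'
    exact fun u v => mul_comm u v

theorem fieldP_fixed {σ : K ≃+* K} (hσ : σ ≠ 1) {a : K} (ha : σ a = a) : a = 0 ∨ a = 1 := by
  by_contra h
  push Not at h
  obtain ⟨h0, h1⟩ := h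
  refine hσ (RingEquiv.ext fun b => ?_)
  show σ b = b
  rcases eq_or_ne b 0 with rfl | hb
  · exact map_zero σ
  haveI : Fact (Nat.Prime 7) := ⟨by norm_num⟩
  have hc : Nat.card Kˣ = 7 := by rw [Nat.card_units, card_K]
  have htop : zpowers (Units.mk0 a h0) = ⊤ :=
    zpowers_eq_top_of_prime_card hc fun h => h1 (by simpa using congrArg Units.val h)
  obtain ⟨n, hn⟩ := mem_zpowers_iff.1 (htop ▸ mem_top (Units.mk0 b hb))
  have hv : a ^ n = b := by simpa using congrArg Units.val hn
  rw [← hv, map_zpow₀, ha]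

theorem card_fixed_fieldP {σ : K ≃+* K} (hσ : σ ≠ 1) :
    Nat.card (fixedSub (fieldP (n := 2) σ)) ≤ 6 := by
  classical
  have hent : ∀ x : fixedSub (fieldP (n := 2) σ), ∃ m : SLn 2 K, pmk m = x.1 ∧
      ∀ i j, (m : Mat 2 K) i j = 0 ∨ (m : Mat 2 K) i j = 1 := by
    rintro ⟨x, hx⟩
    obtain ⟨m, rfl⟩ := pmk_surjective x
    refine ⟨m, rfl, fun i j => fieldP_fixed hσ ?_⟩
    rw [mem_fixedSub, fieldP_pmk] at hx
    have h := congrArg (fun s : SLn 2 K => (s : Mat 2 K) i j) (pmk_K_injective hx)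
    simpa using h
  choose m hm hm01 using hent
  let T := {b : Fin 2 → Fin 2 → Bool // xor (b 0 0 && b 1 1) (b 0 1 && b 1 0) = true}
  have hT : Nat.card T = 6 := by rw [Nat.card_eq_fintype_card]; rfl
  have hdet : ∀ x, xor (decide ((m x : Mat 2 K) 0 0 = 1) && decide ((m x : Mat 2 K) 1 1 = 1))
      (decide ((m x : Mat 2 K) 0 1 = 1) && decide ((m x : Mat 2 K) 1 0 = 1)) = true := by
    intro x
    have hd := (m x).2
    rw [Matrix.det_fin_two] at hd
    rcases hm01 x 0 0 with a | a <;> rcases hm01 x 0 1 with b | b <;>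
      rcases hm01 x 1 0 with c | c <;> rcases hm01 x 1 1 with d | d <;>
      simp [a, b, c, d] at hd ⊢
  let f : fixedSub (fieldP (n := 2) σ) → T := fun x =>
    ⟨fun i j => decide ((m x : Mat 2 K) i j = 1), hdet x⟩
  rw [← hT]
  refine Nat.card_le_card_of_injective f fun x y hxy => Subtype.ext ?_
  rw [← hm x, ← hm y]
  congr 1
  refine Subtype.ext (Matrix.ext fun i j => ?_)
  have h := congrFun (congrFun (congrArg Subtype.val hxy) i) j
  rcases hm01 x i j with a | a <;> rcases hm01 y i j with b | b <;> simp [f, a, b] at h ⊢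

theorem conjP_inner (g : GL (Fin 2) K) : ∃ s : PSLn 2 K, conjP g = MulAut.conj s := by
  letI := Fintype.ofFinite K
  obtain ⟨c, hc⟩ := FiniteField.isSquare_of_char_two (ringChar.eq K 2) (g : Mat 2 K).det
  have hd : (g : Mat 2 K).det ≠ 0 := (Matrix.GeneralLinearGroup.det g).ne_zero
  have hc0 : c ≠ 0 := fun h => hd (by rw [hc, h, mul_zero])
  let s : SLn 2 K := ⟨c⁻¹ • (g : Mat 2 K), by
    rw [Matrix.det_smul, Fintype.card_fin, hc, pow_two]; field_simp⟩
  refine ⟨pmk s, ?_⟩
  rw [← conjP_toGL]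
  exact (conjP_eq_of_smul (inv_ne_zero hc0) rfl).symm

theorem nice_L28 : Nice (PSLn 2 K) := by
  refine ⟨by rw [card_L28, primeFactors_504]; rfl, by rw [card_L28]; norm_num, fun y hy => ?_,
    ⟨7, by norm_num, by norm_num, by rw [card_L28]; norm_num, by rw [card_L28]; norm_num⟩,
    fun α => ?_⟩
  · rcases cent_card_L28 hy with h | h | h
    · haveI : Fact (Nat.Prime 7) := ⟨by norm_num⟩
      exact ⟨7, by norm_num, IsPGroup.of_card (n := 1) (by rw [h]; norm_num), cent_comm_L28 hy⟩
    · haveI : Fact (Nat.Prime 2) := ⟨by norm_num⟩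
      exact ⟨2, Nat.prime_two, IsPGroup.of_card (n := 3) (by rw [h]; norm_num), cent_comm_L28 hy⟩
    · haveI : Fact (Nat.Prime 3) := ⟨by norm_num⟩
      exact ⟨3, by norm_num, IsPGroup.of_card (n := 2) (by rw [h]; norm_num), cent_comm_L28 hy⟩
  · letI := Fintype.ofFinite K
    obtain ⟨g, σ, rfl⟩ := aut_PSL_two α
    obtain ⟨s, hs⟩ := conjP_inner g
    rcases eq_or_ne σ 1 with rfl | hσ
    · exact Or.inl ⟨s, by rw [map_one, mul_one, hs]⟩
    · refine Or.inr ⟨s⁻¹, ?_⟩
      rw [hs, ← mul_assoc, ← map_mul, inv_mul_cancel, map_one, one_mul]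
      have h := (fixedSub (fieldP (n := 2) σ)).card_mul_index
      rw [card_L28] at h
      have hle := card_fixed_fieldP hσ
      have hpos : 0 < Nat.card (fixedSub (fieldP (n := 2) σ)) := Nat.card_pos
      refine (Finset.card_le_card (s := ({2, 3, 7} : Finset ℕ)) fun p hp => ?_)
      simp only [Finset.mem_insert, Finset.mem_singleton] at hp
      refine Nat.mem_primeFactors.2 ?_
      generalize Nat.card (fixedSub (fieldP (n := 2) σ)) = c at h hle hpos
      rcases hp with rfl | rfl | rfl <;> refine ⟨by norm_num, ?_, index_ne_zero_of_finite⟩ <;>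
        (rw [Nat.dvd_iff_mod_eq_zero]; interval_cases c <;> omega)

end H36.TwoPrime
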