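import Cfsg.Agent.H36.TwoPrime.Kernel
import Cfsg.Agent.H36.TwoPrime.NiceA5
import Cfsg.Agent.H36.TwoPrime.NiceL28

/-!
Reduction of "class sizes with at most two prime divisors" to the simple groups with this property:
a non-solvable such group is the product of its centre and `A₅` or `PSL(2,8)`, provided these two
are the only simple ones.
-/

set_option autoImplicit false
set_option linter.unusedSectionVars false

namespace H36.TwoPrime

open Subgroup H79.TwoPrime
open Cfsg.Agent.H9.QT

universe u

/-- One of the two groups of the conclusion. -/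
def IsGood (S : Type*) [Group S] : Prop :=
  Nonempty (S ≃* alternatingGroup (Fin 5)) ∨
    Nonempty (S ≃* Matrix.ProjectiveSpecialLinearGroup (Fin 2) (GaloisField 2 3))

theorem IsGood.nice {S : Type*} [Group S] (h : IsGood S) : Nice S :=
  h.elim (fun ⟨e⟩ => Nice.of_equiv e.symm nice_A5) (fun ⟨e⟩ => Nice.of_equiv e.symm nice_L28)

theorem IsGood.of_equiv {S T : Type*} [Group S] [Group T] (e : T ≃* S) (h : IsGood S) : IsGood T :=
  h.elim (fun ⟨f⟩ => Or.inl ⟨e.trans f⟩) (fun ⟨f⟩ => Or.inr ⟨e.trans f⟩)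

theorem Nice.center_eq_bot {S : Type*} [Group S] [Finite S] (hS : Nice S) : center S = ⊥ := by
  by_contra hne
  obtain ⟨z, hz, hz1⟩ := (bot_or_exists_ne_one (center S)).resolve_left hne
  obtain ⟨r, hr, hp, -⟩ := hS.cent z hz1
  haveI := Fact.mk hr
  have htop : centralizer ({z} : Set S) = ⊤ :=
    eq_top_iff.2 fun g _ => mem_centralizer_singleton_iff.2 (mem_center_iff.1 hz g)
  obtain ⟨n, hn⟩ := IsPGroup.iff_card.1 hp
  rw [htop, card_top] at hn
  have h3 := hS.three
  rw [hn] at h3
  rcases Nat.eq_zero_or_pos n with rfl | hn0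
  · simp at h3
  · rw [Nat.primeFactors_prime_pow hn0.ne' hr] at h3
    simp at h3

/-- A `Nice` normal subgroup cannot lie under a `Nice` quotient of a perfect group. -/
theorem no_inner {L S : Type*} [Group L] [Finite L] [Group S] [Finite S] (hh : HS L)
    (hperf : ⁅(⊤ : Subgroup L), (⊤ : Subgroup L)⁆ = ⊤) (π : L →* S) (hsur : Function.Surjective π)
    (hS : Nice S) (T : Subgroup L) [T.Normal] (hT : Nice T) (hTk : T ≤ π.ker) : False := by
  obtain ⟨r, hr, hr2, hrd, hr22⟩ := hT.cyc
  haveI := Fact.mk hr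
  haveI := Fact.mk Nat.prime_two
  obtain ⟨sT, hsT⟩ := exists_prime_orderOf_dvd_card' r hrd
  have hcardP : Nat.card (zpowers sT) = r ^ (Nat.card T).factorization r := by
    have h1 : 1 ≤ (Nat.card T).factorization r := hr.factorization_pos_of_dvd Nat.card_pos.ne' hrd
    have h2 : ¬ 2 ≤ (Nat.card T).factorization r := fun h =>
      hr22 ((pow_dvd_pow r h).trans (Nat.ordProj_dvd _ _))
    rw [Nat.card_zpowers, hsT, show (Nat.card T).factorization r = 1 by omega, pow_one]
  set P : Sylow r T := Sylow.ofCard (zpowers sT) hcardP with hP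
  have hfr := Sylow.normalizer_sup_eq_top P
  rw [hP, Sylow.coe_ofCard, MonoidHom.map_zpowers] at hfr
  set s : L := (sT : L) with hs
  set N : Subgroup L := normalizer ((zpowers (T.subtype sT) : Subgroup L) : Set L) with hN
  have hNtop : N.map π = ⊤ := by
    have h := congrArg (Subgroup.map π) hfr
    rw [Subgroup.map_sup, (map_eq_bot_iff T).2 hTk, sup_bot_eq,
      map_top_of_surjective π hsur] at h
    exact h
  set C : Subgroup L := centralizer ({s} : Set L) with hC
  have hNC : ⁅N, N⁆ ≤ C := by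
    rw [commutator_le]
    intro a' hai b' hbi
    obtain ⟨a, ha, ha'⟩ : ∃ a, a ∈ N ∧ a' = a⁻¹ := ⟨a'⁻¹, inv_mem hai, (inv_inv a').symm⟩
    obtain ⟨b, hb, hb'⟩ : ∃ b, b ∈ N ∧ b' = b⁻¹ := ⟨b'⁻¹, inv_mem hbi, (inv_inv b').symm⟩
    obtain ⟨i, hi⟩ : ∃ i : ℤ, s ^ i = a * s * a⁻¹ := mem_zpowers_iff.1 ((mem_normalizer_iff.1 ha s).1 (mem_zpowers s))
    obtain ⟨j, hj⟩ : ∃ j : ℤ, s ^ j = b * s * b⁻¹ := mem_zpowers_iff.1 ((mem_normalizer_iff.1 hb s).1 (mem_zpowers s))
    have h1 : a * b * s * (a * b)⁻¹ = s ^ (i * j) := by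
      rw [_root_.mul_inv_rev, show a * b * s * (b⁻¹ * a⁻¹) = a * (b * s * b⁻¹) * a⁻¹ by group, ← hj,
        ← conj_zpow, ← hi, ← zpow_mul]
    have h2 : b * a * s * (b * a)⁻¹ = s ^ (i * j) := by
      rw [_root_.mul_inv_rev, show b * a * s * (a⁻¹ * b⁻¹) = b * (a * s * a⁻¹) * b⁻¹ by group, ← hi,
        ← conj_zpow, ← hj, ← zpow_mul, mul_comm]
    have h3 : (b * a)⁻¹ * (a * b) * s * ((b * a)⁻¹ * (a * b))⁻¹ = s := by
      calc _ = (b * a)⁻¹ * (a * b * s * (a * b)⁻¹) * (b * a) := by group
        _ = (b * a)⁻¹ * (b * a * s * (b * a)⁻¹) * (b * a) := by rw [h1, h2]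
        _ = s := by group
    rw [hC, mem_centralizer_singleton_iff, commutatorElement_def]
    rw [mul_inv_eq_iff_eq_mul] at h3
    simpa [ha', hb', mul_assoc] using h3
  have hCtop : ∀ y : S, ∃ c : C, π c = y := by
    have h : (⊤ : Subgroup S) ≤ C.map π := by
      rw [← map_top_of_surjective π hsur, ← hperf, map_commutator, map_top_of_surjective π hsur,
        ← hNtop, ← map_commutator]
      exact map_mono hNC
    intro y
    obtain ⟨c, hc, rfl⟩ := h (mem_top y)
    exact ⟨⟨c, hc⟩, rfl⟩
  obtain ⟨⟨b, hbC⟩, hb1, k, hk⟩ := exists_lift (π.comp C.subtype) hCtop (r := 2) hS.even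
  have hbk : b ^ 2 ^ k = 1 := by simpa using congrArg Subtype.val hk
  have hsb : Commute b s := mem_centralizer_singleton_iff.1 hbC
  have hso : orderOf s = r := by rw [hs, orderOf_coe, hsT]
  obtain ⟨m, hm⟩ : ∃ m : ℕ, (s ^ 2 ^ k) ^ m = s := exists_pow_eq_self_of_coprime (by
    rw [hso]
    exact Nat.Coprime.pow_left _ ((Nat.coprime_primes Nat.prime_two hr).2 (Ne.symm hr2)))
  have hle : centralizer ({s * b} : Set L) ≤ C ⊓ centralizer ({b} : Set L) := by
    intro g hg
    have h1 : Commute g (s * b) := mem_centralizer_singleton_iff.1 hg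
    have h2 : Commute g ((s * b) ^ 2 ^ k) := h1.pow_right _
    rw [hsb.symm.mul_pow, hbk, mul_one] at h2
    have h3 : Commute g s := hm ▸ h2.pow_right m
    have h4 : Commute g b := by simpa using h3.inv_right.mul_right h1
    exact ⟨mem_centralizer_singleton_iff.2 h3, mem_centralizer_singleton_iff.2 h4⟩
  refine absurd_three hh (s * b) (Nat.card S).primeFactors hS.three.ge fun p hp => ?_
  obtain ⟨hp, hpd, -⟩ := Nat.mem_primeFactors.1 hp
  refine ⟨hp, dvd_trans ?_ (index_dvd_of_le hle)⟩
  rcases eq_or_ne p 2 with rfl | hp2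
  · refine dvd_trans ?_ (index_dvd_of_le inf_le_left)
    refine dvd_trans (hT.dvd_index (y := sT) (r := r) ?_ hr ⟨1, ?_⟩ hp hT.even (Ne.symm hr2)) ?_
    · intro h
      rw [h, orderOf_one] at hsT
      exact hr.ne_one hsT.symm
    · rw [pow_one, ← hsT, pow_orderOf_eq_one]
    · rw [centralizer_subgroupOf]
      exact relIndex_dvd_index _ T
  · refine dvd_trans ?_ (index_dvd_of_le inf_le_right)
    exact dvd_trans (hS.dvd_index hb1 Nat.prime_two
      ⟨k, by simp only [MonoidHom.comp_apply, coe_subtype, ← map_pow, hbk, map_one]⟩ hp hpd hp2)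
      (index_cent_map_dvd π hsur b)

/-- The perfect core of a non-solvable group with the property is `A₅` or `PSL(2,8)`. -/
theorem pcore_good
    (hlist : ∀ (S : Type u) [Group S] [Finite S] [IsSimpleGroup S], ¬ IsMulCommutative S →
      HS S → Nonempty (S ≃* alternatingGroup (Fin 5)) ∨
        Nonempty (S ≃* Matrix.ProjectiveSpecialLinearGroup (Fin 2) (GaloisField 2 3))) :
    ∀ (n : ℕ) (G : Type u) [Group G] [Finite G], Nat.card G = n → HS G → ¬ Group.IsSolvable G →
      IsGood (pcore (⊤ : Subgroup G)) := by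
  intro n
  induction n using Nat.strong_induction_on with
  | _ n ih =>
    intro G _ _ hn hh hns
    have hns' : ¬ Group.IsSolvable (⊤ : Subgroup G) := fun h => hns
      (Group.isSolvable_of_surjective (f := (⊤ : Subgroup G).subtype) fun x => ⟨⟨x, mem_top x⟩, rfl⟩)
    set L := pcore (⊤ : Subgroup G) with hL
    haveI : L.Normal := pcore_normal inferInstance
    have hLne : L ≠ ⊥ := pcore_ne_bot hns'
    haveI := (nontrivial_iff_ne_bot L).2 hLne
    have hperf : ⁅(⊤ : Subgroup L), (⊤ : Subgroup L)⁆ = ⊤ := by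
      refine map_injective L.subtype_injective ?_
      rw [map_commutator, ← MonoidHom.range_eq_map, range_subtype]
      exact pcore_perfect _
    have hhL : HS L := hs_normal hh L
    obtain ⟨M, ⟨hMn, hMt⟩, hmax⟩ := Set.Finite.exists_maximal
      (Set.toFinite {M : Subgroup L | M.Normal ∧ M ≠ ⊤}) ⟨⊥, inferInstance, bot_ne_top⟩
    haveI := hMn
    let π := QuotientGroup.mk' M
    have hsur : Function.Surjective π := QuotientGroup.mk'_surjective M
    haveI : Nontrivial (L ⧸ M) := (QuotientGroup.nontrivial_iff).2 hMt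
    haveI : IsSimpleGroup (L ⧸ M) := ⟨fun H hH => by
      have hle : M ≤ H.comap π := fun x hx => by
        rw [mem_comap, show π x = 1 from (QuotientGroup.eq_one_iff x).2 hx]
        exact one_mem H
      by_cases ht : H.comap π = ⊤
      · exact Or.inr (comap_injective hsur (ht.trans (comap_top π).symm))
      · have hbot : H.comap π = M := le_antisymm (hmax ⟨hH.comap π, ht⟩ hle) hle
        refine Or.inl (comap_injective hsur ?_)
        rw [hbot, MonoidHom.comap_bot, QuotientGroup.ker_mk']⟩
    have hnc : ¬ IsMulCommutative (L ⧸ M) := fun hc => by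
      have h : (⊤ : Subgroup (L ⧸ M)) = ⊥ := by
        rw [← map_top_of_surjective π hsur, ← hperf, map_commutator, map_top_of_surjective π hsur,
          commutator_eq_bot_iff_le_centralizer]
        exact fun a _ => mem_centralizer_iff.2 fun b _ => hc.is_comm.comm b a
      exact (bot_ne_top (α := Subgroup (L ⧸ M))) h.symm
    have hgood : IsGood (L ⧸ M) := hlist _ hnc (hs_of_surjective hhL π hsur)
    have hker : π.ker = M := QuotientGroup.ker_mk' M
    have hMs : Group.IsSolvable M := by
      by_contra hMns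
      have hlt : Nat.card M < n := by
        rw [← hn]
        refine lt_of_lt_of_le ?_ (card_le_card_group L)
        exact lt_of_le_of_ne (card_le_card_group M) fun h => hMt (eq_top_of_card_eq M h)
      have hT : IsGood (pcore (⊤ : Subgroup M)) := ih _ hlt M rfl (hs_normal hhL M) hMns
      haveI : (pcore M).Normal := pcore_normal hMn
      have heq : (pcore (⊤ : Subgroup M)).map M.subtype = pcore M := by
        refine le_antisymm (le_pcore (map_subtype_le _) ?_) ?_
        · rw [← map_commutator, pcore_perfect]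
        · have hle : pcore M ≤ M := pcore_le M
          rw [← map_subgroupOf_eq_of_le hle]
          refine map_mono (le_pcore le_top (map_injective M.subtype_injective ?_))
          rw [map_commutator, map_subgroupOf_eq_of_le hle, pcore_perfect]
      have hT' : IsGood (pcore M) :=
        hT.of_equiv (((pcore (⊤ : Subgroup M)).equivMapOfInjective _ M.subtype_injective).trans
          (MulEquiv.subgroupCongr heq)).symm
      exact no_inner hhL hperf π hsur hgood.nice (pcore M) hT'.nice ((pcore_le M).trans hker.ge)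
    have hk : π.ker = ⊥ := ker_eq_bot hhL hperf π hsur (hker.symm ▸ hMs) hgood.nice
    exact hgood.of_equiv (MulEquiv.ofBijective π ⟨(MonoidHom.ker_eq_bot_iff π).1 hk, hsur⟩)

/-- A group with the property and a `Nice` normal subgroup is its product with the centre. -/
theorem split {G : Type*} [Group G] [Finite G] (hh : HS G) (L : Subgroup G) [L.Normal] (hL : Nice L) :
    center G ⊓ L = ⊥ ∧ center G ⊔ L = ⊤ := by
  set C := centralizer (L : Set G) with hC
  haveI : C.Normal := inferInstanceAs (centralizer (L : Set G)).Normal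
  have hinf : ∀ x ∈ L, x ∈ C → x = 1 := fun x hxL hxC => by
    have h : (⟨x, hxL⟩ : L) ∈ center L := mem_center_iff.2 fun g =>
      Subtype.ext (mem_centralizer_iff.1 hxC g g.2)
    rw [hL.center_eq_bot, mem_bot] at h
    exact congrArg Subtype.val h
  have hCZ : C ≤ center G := by
    intro c hc
    by_contra hcz
    have h1 : (centralizer ({c} : Set G)).index ≠ 1 := fun h => hcz (mem_center_iff.2 fun g =>
      mem_centralizer_singleton_iff.1 (by rw [index_eq_one.1 h]; exact mem_top g))
    obtain ⟨p, hp, hpd⟩ := Nat.exists_prime_and_dvd h1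
    obtain ⟨r, hr, hrd, hpr⟩ : ∃ r, r.Prime ∧ r ∣ Nat.card L ∧
        (p = r ∨ p ∉ (Nat.card L).primeFactors) := by
      by_cases h : p ∈ (Nat.card L).primeFactors
      · exact ⟨p, hp, (Nat.mem_primeFactors.1 h).2.1, Or.inl rfl⟩
      · exact ⟨2, Nat.prime_two, hL.even, Or.inr h⟩
    haveI := Fact.mk hr
    obtain ⟨y, hy⟩ := exists_prime_orderOf_dvd_card' r hrd
    have hy1 : y ≠ 1 := fun h => by
      rw [h, orderOf_one] at hy
      exact hr.ne_one hy.symm
    have hle : centralizer ({(y : G) * c} : Set G) ≤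
        centralizer ({(y : G)} : Set G) ⊓ centralizer ({c} : Set G) := by
      intro g hg
      rw [mem_centralizer_singleton_iff] at hg
      have h2 : (y : G)⁻¹ * (g * y * g⁻¹) = c * (g * c⁻¹ * g⁻¹) := by
        calc (y : G)⁻¹ * (g * y * g⁻¹) = (y : G)⁻¹ * (g * ((y : G) * c)) * (c⁻¹ * g⁻¹) := by group
          _ = c * (g * c⁻¹ * g⁻¹) := by rw [hg]; group
      have h3 := hinf _ (mul_mem (inv_mem y.2) ((inferInstance : L.Normal).conj_mem _ y.2 g))
        (h2 ▸ mul_mem hc ((inferInstance : C.Normal).conj_mem _ (inv_mem hc) g))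
      have h4 : g * (y : G) = (y : G) * g := by
        rw [inv_mul_eq_one] at h3
        exact mul_inv_eq_iff_eq_mul.1 h3.symm
      refine ⟨mem_centralizer_singleton_iff.2 h4, mem_centralizer_singleton_iff.2 ?_⟩
      rw [← mul_assoc, h4, mul_assoc, mul_assoc] at hg
      exact mul_left_cancel hg
    refine absurd_three hh ((y : G) * c) _ (card_insert_erase hL hpr) fun q hq => ?_
    rcases Finset.mem_insert.1 hq with rfl | hq
    · exact ⟨hp, hpd.trans (index_dvd_of_le (hle.trans inf_le_right))⟩
    · obtain ⟨hqr, hq⟩ := Finset.mem_erase.1 hq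
      obtain ⟨hq, hqd, -⟩ := Nat.mem_primeFactors.1 hq
      refine ⟨hq, dvd_trans ?_ (index_dvd_of_le (hle.trans inf_le_left))⟩
      refine dvd_trans (hL.dvd_index hy1 hr ⟨1, by rw [pow_one, ← hy, pow_orderOf_eq_one]⟩ hq hqd hqr) ?_
      rw [centralizer_subgroupOf]
      exact relIndex_dvd_index _ L
  refine ⟨eq_bot_iff.2 fun x hx => hinf x hx.2 (center_le_centralizer _ hx.1), eq_top_iff.2 ?_⟩
  intro g _
  rcases hL.outer (MulAut.conjNormal g) with ⟨l, hl⟩ | ⟨s, hs⟩
  · have hmem : (l : G)⁻¹ * g ∈ C := mem_centralizer_iff.2 fun x hx => by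
      have h := congrArg Subtype.val (MulEquiv.congr_fun hl ⟨x, hx⟩)
      simp only [MulAut.conj_apply, Subgroup.coe_mul, InvMemClass.coe_inv,
        MulAut.conjNormal_apply] at h
      calc x * ((l : G)⁻¹ * g) = (l : G)⁻¹ * ((l : G) * x * (l : G)⁻¹) * g := by group
        _ = (l : G)⁻¹ * g * x := by rw [h]; group
    have h := mul_mem (mem_sup_right l.2 : (l : G) ∈ center G ⊔ L) (mem_sup_left (hCZ hmem))
    rwa [mul_inv_cancel_left] at h
  · exfalso
    have heq : fixedSub (MulAut.conj s * MulAut.conjNormal g) =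
        (centralizer ({(s : G) * g} : Set G)).subgroupOf L := by
      ext x
      rw [mem_fixedSub, mem_subgroupOf, mem_centralizer_singleton_iff, Subtype.ext_iff]
      simp only [MulAut.mul_apply, MulAut.conj_apply, Subgroup.coe_mul, InvMemClass.coe_inv,
        MulAut.conjNormal_apply]
      constructor <;> intro h
      · calc (x : G) * ((s : G) * g) = (s : G) * (g * x * g⁻¹) * (s : G)⁻¹ * ((s : G) * g) := by
              rw [h]
          _ = (s : G) * g * x := by group
      · calc (s : G) * (g * x * g⁻¹) * (s : G)⁻¹ = (s : G) * g * x * ((s : G) * g)⁻¹ := by group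
          _ = x := by rw [← h]; group
    rw [heq] at hs
    refine absurd_three hh ((s : G) * g) _ hs fun p hp => ?_
    obtain ⟨hp, hpd, -⟩ := Nat.mem_primeFactors.1 hp
    exact ⟨hp, hpd.trans (relIndex_dvd_index _ L)⟩

/-- The statement S4147, given the simple groups with the property. -/
theorem main {G : Type u} [Group G] [Finite G]
    (hlist : ∀ (S : Type u) [Group S] [Finite S] [IsSimpleGroup S], ¬ IsMulCommutative S →
      HS S → Nonempty (S ≃* alternatingGroup (Fin 5)) ∨
        Nonempty (S ≃* Matrix.ProjectiveSpecialLinearGroup (Fin 2) (GaloisField 2 3)))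
    (h : HS G) :
    Group.IsSolvable G ∨ ∃ S : Subgroup G, S.Normal ∧ Subgroup.center G ⊓ S = ⊥ ∧
      Subgroup.center G ⊔ S = ⊤ ∧
      (Nonempty (S ≃* alternatingGroup (Fin 5)) ∨
        Nonempty (S ≃* Matrix.ProjectiveSpecialLinearGroup (Fin 2) (GaloisField 2 3))) := by
  by_cases hs : Group.IsSolvable G
  · exact Or.inl hs
  haveI : (pcore (⊤ : Subgroup G)).Normal := pcore_normal inferInstance
  have hgood := pcore_good hlist _ G rfl h hs
  obtain ⟨h1, h2⟩ := split h _ hgood.nice
  exact Or.inr ⟨_, inferInstance, h1, h2, hgood⟩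

end H36.TwoPrime
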